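import Groth.Agent.Lib.LCFin.CMDim
import Groth.Agent.Lib.Excellent.CatenaryDim
import Groth.Agent.Lib.EGA75.DepthFlat
import Groth.Agent.S9124
import Groth.Prelude.Def_SGA2
import Mathlib.RingTheory.RingHom.Flat
import Mathlib.RingTheory.Ideal.GoingDown

/-!
Relative codimension along a flat map from a Cohen–Macaulay ring to a catenary ring.
-/

universe u

open IsLocalRing

namespace Groth.Agent.H91.DeltaT

theorem coheight_orderIso' {α β : Type*} [Preorder α] [Preorder β] (e : α ≃o β) (x : α) :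
    Order.coheight (e x) = Order.coheight x :=
  Order.coheight_orderIso e x

theorem height_Ici_eq_coheight_Iic {α : Type*} [Preorder α] {p q : α} (h : p ≤ q) :
    Order.height (⟨q, h⟩ : Set.Ici p) = Order.coheight (⟨p, h⟩ : Set.Iic q) := by
  apply WithBot.coe_injective
  rw [Order.height_eq_krullDim_Iic, Order.coheight_eq_krullDim_Ici]
  exact Order.krullDim_eq_of_orderIso
    { toFun := fun x => ⟨⟨x.1.1, x.2⟩, x.1.2⟩
      invFun := fun x => ⟨⟨x.1.1, x.2⟩, x.1.2⟩
      left_inv := fun _ => rfl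
      right_inv := fun _ => rfl
      map_rel_iff' := Iff.rfl }

/-- The point of the spectrum of a localization. -/
theorem exists_point {A : Type u} [CommRing A] {p q : PrimeSpectrum A} (h : p ≤ q) :
    ∃ P : PrimeSpectrum (Localization.AtPrime q.asIdeal),
      P.asIdeal.height = p.asIdeal.height ∧
      Order.coheight P = Order.height (⟨q, h⟩ : Set.Ici p) := by
  let Φ := IsLocalization.AtPrime.primeSpectrumOrderIso (Localization.AtPrime q.asIdeal) q.asIdeal
  refine ⟨Φ.symm ⟨p, h⟩, ?_, ?_⟩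
  · have hA' : (Φ.symm ⟨p, h⟩).asIdeal.comap (algebraMap A (Localization.AtPrime q.asIdeal)) = p.asIdeal :=
      congrArg (fun z : Set.Iic q => z.1.asIdeal) (Φ.apply_symm_apply ⟨p, h⟩)
    rw [← IsLocalization.height_under q.asIdeal.primeCompl, Ideal.under_def, hA']
  · rw [coheight_orderIso' Φ.symm, height_Ici_eq_coheight_Iic]

variable {A A' : Type u} [CommRing A] [CommRing A'] [IsNoetherianRing A] [IsNoetherianRing A']
  [Algebra A A'] [Module.Flat A A']

theorem codim_le (hcm : LocCoh.IsCohenMacaulayRing A) (hcat : CAlg.IsCatenary A')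
    (p q : PrimeSpectrum A) (p' q' : PrimeSpectrum A') (hp'q' : p' ≤ q')
    (hp : p'.asIdeal.comap (algebraMap A A') = p.asIdeal)
    (hq : q'.asIdeal.comap (algebraMap A A') = q.asIdeal) (hpq : p ≤ q) :
    Order.height (⟨q, hpq⟩ : Set.Ici p) ≤ Order.height (⟨q', hp'q'⟩ : Set.Ici p') +
      (p'.asIdeal.map (Ideal.Quotient.mk (p.asIdeal.map (algebraMap A A')))).height := by
  let R := Localization.AtPrime q.asIdeal
  let R' := Localization.AtPrime q'.asIdeal
  let φ : R →+* R' := Localization.localRingHom q.asIdeal q'.asIdeal (algebraMap A A') hq.symm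
  letI : Algebra R R' := φ.toAlgebra
  haveI : Module.Flat R R' :=
    RingHom.Flat.localRingHom (f := algebraMap A A') (RingHom.flat_algebraMap_iff.2 ‹_›) q'.asIdeal q.asIdeal hq.symm
  haveI : IsLocalHom (algebraMap R R') := Localization.isLocalHom_localRingHom _ _ _ _
  haveI : LocCoh.IsCohenMacaulayLocalRing R := hcm.isCohenMacaulayLocalRing_localization q.asIdeal
  have hcat' : CAlg.IsCatenary R' := Groth.Agent.S9124.result A' q'.asIdeal.primeCompl R' hcat
  haveI : p'.asIdeal.LiesOver p.asIdeal := ⟨hp.symm⟩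
  have hht := Ideal.height_eq_height_add_of_liesOver_of_hasGoingDown p.asIdeal p'.asIdeal
  obtain ⟨P, hP, hPc⟩ := exists_point hpq
  obtain ⟨P', hP', hP'c⟩ := exists_point hp'q'
  rw [← hPc, ← hP'c]
  obtain ⟨n, hn⟩ := ENat.ne_top_iff_exists.1
    (show Order.height P' ≠ ⊤ by rw [← PrimeSpectrum.height_eq_orderHeight]; exact Ideal.height_ne_top P'.2.ne_top)
  obtain ⟨P₀, -, hmin, hco⟩ := Lib.Excellent.CatenaryDim.exists_isMin_coheight_eq hcat' n P' hn.symm
  have hPmin : P₀.asIdeal ∈ minimalPrimes R' :=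
    ⟨⟨P₀.2, bot_le⟩, fun J hJ hle => hmin (show (⟨J, hJ.1⟩ : PrimeSpectrum R') ≤ P₀ from hle)⟩
  have hass : P₀.asIdeal ∈ associatedPrimes R' R' := by
    apply Module.associatedPrimes.minimalPrimes_annihilator_subset_associatedPrimes
    rwa [Module.annihilator_eq_bot.mpr inferInstance]
  have h1 := Lib.Depth.Assoc.depth_le_ringKrullDim_quotient R' hass
  rw [Lib.Excellent.CatenaryDim.ringKrullDim_quotient_eq_coheight, WithBot.coe_le_coe] at h1
  haveI : Nontrivial (R' ⧸ (maximalIdeal R).map (algebraMap R R')) := Ideal.Quotient.nontrivial_iff.mpr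
    (ne_top_of_le_ne_top Ideal.IsPrime.ne_top' (((local_hom_TFAE (algebraMap R R')).out 0 2).mp ‹_›))
  haveI : IsLocalRing (R' ⧸ (maximalIdeal R).map (algebraMap R R')) :=
    .of_surjective' _ Ideal.Quotient.mk_surjective
  rw [Lib.EGA75.DepthFlat.depth_eq_add R R', hco, hn, ← PrimeSpectrum.height_eq_orderHeight, hP', hht] at h1
  obtain ⟨D, hD⟩ := ENat.ne_top_iff_exists.1 (Lib.Depth.Assoc.depth_ne_top (R := R) R)
  have hdim : ringKrullDim R = (D : ℕ) := by
    rw [Lib.Depth.CM.ringKrullDim_eq_depth, ← hD]; rfl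
  obtain ⟨hh, ee, hhh, hee, hsum⟩ := Lib.LCFin.CMDim.exists_dims P.asIdeal hdim
  rw [IsLocalization.AtPrime.ringKrullDim_eq_height P.asIdeal, hP] at hhh
  rw [Lib.Excellent.CatenaryDim.ringKrullDim_quotient_eq_coheight] at hee
  have hhh' : p.asIdeal.height = (hh : ℕ∞) := WithBot.coe_injective hhh
  have hee' : Order.coheight P = (ee : ℕ∞) := WithBot.coe_injective hee
  rw [hee']
  rw [hhh', ← hD] at h1
  have h2 : ((hh : ℕ∞) + (ee : ℕ∞)) ≤ (hh : ℕ∞) + (Order.coheight P' +
      (p'.asIdeal.map (Ideal.Quotient.mk (p.asIdeal.map (algebraMap A A')))).height) := by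
    have h3 : ((hh : ℕ∞) + (ee : ℕ∞)) = (D : ℕ∞) := by rw [← hsum]; norm_cast
    rw [h3]
    refine le_trans (le_trans le_self_add h1) (le_of_eq ?_)
    ring
  exact (ENat.add_le_add_iff_left (ENat.natCast_ne_top hh)).1 h2

end Groth.Agent.H91.DeltaT
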